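import Mathlib

/-!
The Sylow subgroup `μ_p ≀ C_p` of `GL_p(F)` when `p` divides `|F| - 1` exactly once, and the fact that
each of its elements lies in a second Sylow subgroup.
-/

namespace CfsgLib.Monomial

open Matrix Subgroup
open scoped Pointwise

variable {F : Type*} [Field F] {p : ℕ} [Fact p.Prime]

local notation "Mat" => Matrix (ZMod p) (ZMod p) F

/-- The matrix with entry `d i` in position `(i, i + j)`. -/
def mon (d : ZMod p → rootsOfUnity p F) (j : ZMod p) : Mat :=
  Matrix.of fun i l => if l = i + j then ((d i : Fˣ) : F) else 0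

theorem mon_apply (d : ZMod p → rootsOfUnity p F) (j i l : ZMod p) :
    mon d j i l = if l = i + j then ((d i : Fˣ) : F) else 0 := rfl

theorem mon_mul (d e : ZMod p → rootsOfUnity p F) (j k : ZMod p) :
    mon d j * mon e k = mon (fun i => d i * e (i + j)) (j + k) := by
  ext i l
  rw [Matrix.mul_apply, Finset.sum_eq_single (i + j)]
  · simp [mon_apply, add_assoc]
  · intro b _ hb; simp [mon_apply, hb]
  · simp

theorem mon_one : mon (fun _ => 1) 0 = (1 : Mat) := by
  ext i l
  simp [mon_apply, Matrix.one_apply, eq_comm]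

/-- `mon` as a unit. -/
noncomputable def monU (d : ZMod p → rootsOfUnity p F) (j : ZMod p) : GL (ZMod p) F where
  val := mon d j
  inv := mon (fun i => (d (i - j))⁻¹) (-j)
  val_inv := by rw [mon_mul, add_neg_cancel, ← mon_one]; congr 1; funext i; simp
  inv_val := by rw [mon_mul, neg_add_cancel, ← mon_one]; congr 1; funext i; simp [sub_eq_add_neg]

variable (F p) in
/-- Monomial matrices with entries in `μ_p` over the cyclic group of degree `p`. -/
noncomputable def monGroup : Subgroup (GL (ZMod p) F) where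
  carrier := {g | ∃ d j, (g : Mat) = mon d j}
  one_mem' := ⟨fun _ => 1, 0, mon_one.symm⟩
  mul_mem' := by
    rintro g g' ⟨d, j, h⟩ ⟨e, k, h'⟩
    exact ⟨_, _, by rw [Units.val_mul, h, h', mon_mul]⟩
  inv_mem' := by
    rintro g ⟨d, j, h⟩
    refine ⟨fun i => (d (i - j))⁻¹, -j, Units.inv_eq_of_mul_eq_one_right ?_⟩
    rw [h]; exact (monU d j).val_inv

theorem monU_mem (d : ZMod p → rootsOfUnity p F) (j : ZMod p) : monU d j ∈ monGroup F p := ⟨d, j, rfl⟩

theorem mon_inj {d e : ZMod p → rootsOfUnity p F} {j k : ZMod p} (h : mon d j = mon e k) : d = e ∧ j = k := by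
  have hjk : j = k := by
    by_contra hne
    have := congrFun (congrFun h 0) j
    simp [mon_apply, hne] at this
  subst hjk
  refine ⟨funext fun i => ?_, rfl⟩
  have := congrFun (congrFun h i) (i + j)
  simp only [mon_apply, if_pos] at this
  exact Subtype.ext (Units.ext this)

theorem card_monGroup [Finite F] : Nat.card (monGroup F p) = Nat.card (rootsOfUnity p F) ^ p * p := by
  have hb : Function.Bijective
      (fun v : (ZMod p → rootsOfUnity p F) × ZMod p => (⟨monU v.1 v.2, monU_mem _ _⟩ : monGroup F p)) := by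
    constructor
    · intro v v' h
      have := mon_inj (congrArg (fun g : monGroup F p => ((g : GL (ZMod p) F) : Mat)) h)
      exact Prod.ext this.1 this.2
    · rintro ⟨g, d, j, h⟩
      exact ⟨(d, j), Subtype.ext (Units.ext h.symm)⟩
  rw [← Nat.card_eq_of_bijective _ hb, Nat.card_prod, Nat.card_fun, Nat.card_zmod]

theorem natCast_ne_zero [Fintype F] (h1 : p ∣ Fintype.card F - 1) : (p : F) ≠ 0 := by
  intro h
  have := ringChar.charP F
  obtain ⟨n, hr, hq⟩ := FiniteField.card F (ringChar F)
  have hd : ringChar F = p := (Nat.prime_dvd_prime_iff_eq hr Fact.out).mp ((CharP.cast_eq_zero_iff F _ p).mp h)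
  have h2 : p ∣ Fintype.card F := by rw [hq, hd]; exact dvd_pow_self _ n.pos.ne'
  have h3 := Nat.dvd_sub h2 h1
  rw [Nat.sub_sub_self Fintype.card_pos] at h3
  exact (Fact.out : p.Prime).not_dvd_one h3

theorem exists_root [Fintype F] (h1 : p ∣ Fintype.card F - 1) : ∃ w : rootsOfUnity p F, orderOf w = p := by
  classical
  obtain ⟨c, hc⟩ := exists_prime_orderOf_dvd_card (G := Fˣ) p (by rw [Fintype.card_units]; exact h1)
  refine ⟨⟨c, (mem_rootsOfUnity p c).mpr (by rw [← hc, pow_orderOf_eq_one])⟩, ?_⟩
  rw [Subgroup.orderOf_mk, hc]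

theorem card_roots [Fintype F] (h1 : p ∣ Fintype.card F - 1) : Nat.card (rootsOfUnity p F) = p := by
  obtain ⟨w, hw⟩ := exists_root h1
  refine le_antisymm ?_ (hw.ge.trans _root_.orderOf_le_card)
  exact card_rootsOfUnity F p

theorem factorization_GL [Fintype F] (hp : p ≠ 2) (h1 : p ∣ Fintype.card F - 1)
    (h2 : ¬ p ^ 2 ∣ Fintype.card F - 1) : (Nat.card (GL (Fin p) F)).factorization p = p + 1 := by
  classical
  have hpp : p.Prime := Fact.out
  set q := Fintype.card F with hq
  have hq1 : 1 < q := Fintype.one_lt_card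
  have hq0 : ¬ p ∣ q := fun h => hpp.not_dvd_one (by
    have h3 := Nat.dvd_sub h h1
    rwa [Nat.sub_sub_self hq1.le] at h3)
  have hv1 : padicValNat p (q - 1) = 1 := by
    have a : 1 ≤ padicValNat p (q - 1) := one_le_padicValNat_of_dvd (by omega) h1
    by_contra hne
    exact h2 ((pow_dvd_pow p (show 2 ≤ padicValNat p (q - 1) by omega)).trans pow_padicValNat_dvd)
  have hterm : ∀ i : Fin p, (q ^ p - q ^ (i : ℕ)).factorization p = if (i : ℕ) = 0 then 2 else 1 := by
    intro i
    have hi := i.2
    have hlte := padicValNat.pow_sub_pow (p := p) (hpp.odd_of_ne_two hp) hq1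
      (by simpa using h1) hq0 (show p - (i : ℕ) ≠ 0 by omega)
    rw [one_pow, hv1] at hlte
    have e : q ^ p - q ^ (i : ℕ) = q ^ (i : ℕ) * (q ^ (p - (i : ℕ)) - 1) := by
      rw [Nat.mul_sub, ← pow_add, mul_one, Nat.add_sub_cancel' hi.le]
    have hne : q ^ (p - (i : ℕ)) - 1 ≠ 0 := by
      have : 2 ≤ q ^ (p - (i : ℕ)) := le_trans hq1 (Nat.le_self_pow (by omega) q)
      omega
    rw [e, Nat.factorization_mul (pow_ne_zero _ (by omega)) hne, Finsupp.add_apply, Nat.factorization_pow,
      Finsupp.smul_apply, Nat.factorization_eq_zero_of_not_dvd hq0, smul_zero, zero_add,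
      Nat.factorization_def _ hpp, hlte]
    split_ifs with h0
    · rw [h0, Nat.sub_zero, padicValNat_self]
    · rw [padicValNat.eq_zero_of_not_dvd fun hd => by
        have := Nat.le_of_dvd (by omega) hd
        omega]
  rw [Matrix.card_GL_field, Nat.factorization_prod_apply, Finset.sum_congr rfl fun i _ => hterm i]
  · have : NeZero p := ⟨hpp.ne_zero⟩
    rw [← Finset.add_sum_erase _ _ (Finset.mem_univ (0 : Fin p)), Finset.sum_congr rfl fun i hi => if_neg
      (fun h => Finset.ne_of_mem_erase hi (Fin.ext (h.trans (Fin.val_zero p).symm)))]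
    simp
    have := hpp.two_le
    omega
  · intro i _
    have := Nat.pow_lt_pow_right hq1 i.2
    simp only [← hq]
    omega

/-- The monomial group as a Sylow subgroup. -/
theorem exists_sylow [Fintype F] (hp : p ≠ 2) (h1 : p ∣ Fintype.card F - 1)
    (h2 : ¬ p ^ 2 ∣ Fintype.card F - 1) : ∃ S : Sylow p (GL (ZMod p) F), (S : Subgroup _) = monGroup F p := by
  classical
  have e : GL (ZMod p) F ≃* GL (Fin p) F :=
    Units.mapEquiv (Matrix.reindexAlgEquiv F F (Fintype.equivFinOfCardEq (ZMod.card p))).toMulEquiv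
  refine ⟨Sylow.ofCard (monGroup F p) ?_, rfl⟩
  rw [card_monGroup, card_roots h1, Nat.card_congr e.toEquiv, factorization_GL hp h1 h2, pow_succ]

theorem two_sylow_of_smul {G : Type*} [Group G] (S : Sylow p G) {x g : G} (hx : x ∈ S) (hc : g * x = x * g)
    (hg : g ∉ normalizer ((S : Subgroup G) : Set G)) : ∃ P Q : Sylow p G, P ≠ Q ∧ x ∈ P ∧ x ∈ Q := by
  refine ⟨g • S, S, fun h => hg (Sylow.smul_eq_iff_mem_normalizer.mp h), ?_, hx⟩
  show x ∈ ((g • S : Sylow p G) : Subgroup G)
  rw [Sylow.coe_subgroup_smul, show x = MulAut.conj g x by rw [MulAut.conj_apply, hc, mul_inv_cancel_right]]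
  exact smul_mem_pointwise_smul _ (MulAut.conj g) _ hx

theorem two_sylow_conj {G : Type*} [Group G] {x h : G} :
    (∃ P Q : Sylow p G, P ≠ Q ∧ x ∈ P ∧ x ∈ Q) → ∃ P Q : Sylow p G, P ≠ Q ∧ h * x * h⁻¹ ∈ P ∧ h * x * h⁻¹ ∈ Q := by
  rintro ⟨P, Q, hne, hP, hQ⟩
  refine ⟨h • P, h • Q, fun e => hne (smul_left_cancel h e), ?_, ?_⟩ <;>
    · show _ ∈ ((_ : Sylow p G) : Subgroup G)
      rw [Sylow.coe_subgroup_smul]
      exact smul_mem_pointwise_smul _ (MulAut.conj h) _ (by assumption)

/-- A unit of `F[x]` for `x` outside the diagonal group does not normalise the monomial group. -/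
theorem shift_case [Fintype F] (hp : p ≠ 2) (h1 : p ∣ Fintype.card F - 1) (S : Sylow p (GL (ZMod p) F))
    (hS : (S : Subgroup _) = monGroup F p) {x : GL (ZMod p) F} {d : ZMod p → rootsOfUnity p F} {k : ZMod p}
    (hk : k ≠ 0) (hx : (x : Mat) = mon d k) :
    ∃ P Q : Sylow p (GL (ZMod p) F), P ≠ Q ∧ x ∈ P ∧ x ∈ Q := by
  classical
  have hxS : x ∈ (S : Subgroup _) := hS ▸ ⟨d, k, hx⟩
  have hp3 : 2 < p := lt_of_le_of_ne (Fact.out : p.Prime).two_le (Ne.symm hp)
  have htwo : (2 : ZMod p) ≠ 0 := by
    intro h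
    have : p ∣ 2 := (ZMod.natCast_eq_zero_iff 2 p).mp (by exact_mod_cast h)
    have := Nat.le_of_dvd two_pos this
    omega
  obtain ⟨w, hw⟩ := exists_root h1
  have hw1 : w ≠ 1 := fun h => (Fact.out : p.Prime).ne_one (by rw [← hw, h, orderOf_one])
  by_cases hsplit : ∀ b : Fˣ, (x : Mat) ^ p = ((b : F) ^ p) • 1
  · -- all eigenvalues lie in `μ_p`: use an element of order `p`
    have hxp : (x : Mat) ^ p = 1 := by simpa using hsplit 1
    set N : Mat := ∑ j ∈ Finset.range p, (x : Mat) ^ j with hN
    have hxN : (x : Mat) * N = N := by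
      have h := mul_geom_sum (x : Mat) p
      rw [hxp, sub_self, sub_mul, one_mul, sub_eq_zero, ← hN] at h
      exact h
    have hxjN : ∀ j, (x : Mat) ^ j * N = N := by
      intro j
      induction j with
      | zero => rw [pow_zero, one_mul]
      | succ j ih => rw [pow_succ, mul_assoc, hxN, ih]
    have hp0 : (p : F) ≠ 0 := natCast_ne_zero h1
    set e : Mat := (p : F)⁻¹ • N with he
    have hee : e * e = e := by
      rw [he, smul_mul_smul_comm, show N * N = (p : F) • N by
        nth_rw 1 [hN]
        rw [Finset.sum_mul, Finset.sum_congr rfl fun j _ => hxjN j, Finset.sum_const, Finset.card_range,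
          Nat.cast_smul_eq_nsmul F], smul_smul, mul_assoc, inv_mul_cancel₀ hp0, mul_one]
    set t : F := ((w : Fˣ) : F) - 1
    have hpow : ∀ n : ℕ, (1 + t • e) ^ n = 1 + (((w : Fˣ) : F) ^ n - 1) • e := by
      intro n
      induction n with
      | zero => simp
      | succ n ih =>
        rw [pow_succ, ih, add_mul, mul_add, mul_add, one_mul, one_mul, mul_one, smul_mul_smul_comm, hee]
        simp only [t]
        module
    have hgp : (1 + t • e) ^ p = 1 := by
      rw [hpow, show ((w : Fˣ) : F) ^ p = 1 by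
        rw [← Units.val_pow_eq_pow_val, (mem_rootsOfUnity p _).mp w.2, Units.val_one], sub_self, zero_smul, add_zero]
    let g : GL (ZMod p) F := Units.ofPowEqOne _ p hgp (Fact.out : p.Prime).ne_zero
    have hgval : (g : Mat) = 1 + t • e := rfl
    have hgc : g * x = x * g := by
      apply Units.ext
      rw [Units.val_mul, Units.val_mul, hgval]
      exact (((Commute.one_left _).add_left (((Commute.sum_left _ _ _ fun j _ => Commute.pow_self (x : Mat) j).smul_left _).smul_left t))).eq
    refine two_sylow_of_smul S hxS hgc fun hn => ?_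
    have hgpG : IsPGroup p (zpowers g) := IsPGroup.of_card_dvd_pow (n := 1) (by
      rw [Nat.card_zpowers, pow_one]
      exact orderOf_dvd_of_pow_eq_one (Units.ext (by rw [Units.val_pow_eq_pow_val, hgval, hgp, Units.val_one])))
    have hgS : g ∈ (S : Subgroup _) := by
      have h2' := hgpG.inf_normalizer_sylow S
      rw [show (normalizer (S : Set (GL (ZMod p) F)) : Subgroup _) = normalizer ((S : Subgroup (GL (ZMod p) F)) : Set _) from rfl,
        inf_eq_left.mpr (zpowers_le.mpr hn)] at h2'
      exact (inf_eq_left.mp h2'.symm) (mem_zpowers g)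
    rw [hS] at hgS
    obtain ⟨f, l, hf⟩ := hgS
    have hxpow : ∀ n : ℕ, ∃ d' : ZMod p → rootsOfUnity p F, (x : Mat) ^ n = mon d' (n * k) := by
      intro n
      induction n with
      | zero => exact ⟨fun _ => 1, by rw [pow_zero, Nat.cast_zero, zero_mul, mon_one]⟩
      | succ n ih =>
        obtain ⟨d', hd'⟩ := ih
        exact ⟨_, by rw [pow_succ, hd', hx, mon_mul, Nat.cast_succ, add_mul, one_mul]⟩
    have hent : ∀ n : ℕ, 0 < n → n < p → (g : Mat) 0 ((n : ZMod p) * k) ≠ 0 := by
      intro n hn0 hnp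
      have hne : (n : ZMod p) * k ≠ 0 := mul_ne_zero (fun h => by
        rw [ZMod.natCast_eq_zero_iff] at h
        exact absurd (Nat.le_of_dvd hn0 h) (by omega)) hk
      rw [hgval, Matrix.add_apply, Matrix.one_apply_ne (Ne.symm hne), zero_add, Matrix.smul_apply, he,
        Matrix.smul_apply, smul_eq_mul, smul_eq_mul, hN, Matrix.sum_apply, Finset.sum_eq_single n]
      · obtain ⟨d', hd'⟩ := hxpow n
        rw [hd', mon_apply, if_pos (zero_add _).symm]
        refine mul_ne_zero (sub_ne_zero.mpr fun h => hw1 (Subtype.ext (Units.ext h))) (mul_ne_zero (inv_ne_zero hp0) (Units.ne_zero _))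
      · intro b hb hbn
        obtain ⟨d', hd'⟩ := hxpow b
        rw [hd', mon_apply, if_neg]
        rw [zero_add]
        intro h
        apply hbn
        have h' := congrArg ZMod.val (mul_right_cancel₀ hk h)
        rwa [ZMod.val_cast_of_lt hnp, ZMod.val_cast_of_lt (Finset.mem_range.mp hb), eq_comm] at h'
      · intro h; exact absurd (Finset.mem_range.mpr hnp) h
    have a1 := hent 1 one_pos (by omega)
    have a2 := hent 2 two_pos hp3
    rw [hf, mon_apply, zero_add, Nat.cast_one, one_mul] at a1
    rw [hf, mon_apply, zero_add] at a2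
    simp only [ne_eq, ite_eq_right_iff, Classical.not_imp] at a1 a2
    apply hk
    have := a2.1
    rw [← a1.1] at this
    push_cast at this
    linear_combination this
  · push Not at hsplit
    obtain ⟨b, hb⟩ := hsplit
    have hb0 : (b : F) ≠ 0 := b.ne_zero
    -- `1 - b⁻¹ x` is invertible and moves the diagonal group
    set a : F := -(b : F)⁻¹ with ha
    set g0 : Mat := 1 + a • (x : Mat) with hg0
    have hdet : g0.det ≠ 0 := by
      intro h
      obtain ⟨v, hv0, hv⟩ := Matrix.exists_mulVec_eq_zero_iff.mpr h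
      have hxv : (x : Mat) *ᵥ v = (b : F) • v := by
        rw [hg0, Matrix.add_mulVec, Matrix.one_mulVec, Matrix.smul_mulVec, ha, neg_smul, ← sub_eq_add_neg,
          sub_eq_zero] at hv
        conv_rhs => rw [hv, smul_smul, mul_inv_cancel₀ hb0, one_smul]
      have hpowv : ∀ n : ℕ, ((x : Mat) ^ n) *ᵥ v = ((b : F) ^ n) • v := by
        intro n
        induction n with
        | zero => simp
        | succ n ih => rw [pow_succ, ← Matrix.mulVec_mulVec, hxv, Matrix.mulVec_smul, ih, smul_smul, pow_succ']
      obtain ⟨d', hd'⟩ : ∃ c : F, (x : Mat) ^ p = c • 1 := by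
        have hxpow : ∀ n : ℕ, (x : Mat) ^ n = mon (fun i => ∏ m ∈ Finset.range n, d (i + (m : ZMod p) * k)) (n * k) := by
          intro n
          induction n with
          | zero => simp [mon_one]
          | succ n ih =>
            rw [pow_succ, ih, hx, mon_mul, Nat.cast_succ, add_mul, one_mul]
            simp only [Finset.prod_range_succ]
        refine ⟨(((∏ i, d i : rootsOfUnity p F) : Fˣ) : F), ?_⟩
        rw [hxpow, ZMod.natCast_self, zero_mul]
        ext i l
        rw [Matrix.smul_apply, mon_apply, add_zero, smul_eq_mul, Matrix.one_apply]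
        by_cases hil : l = i
        · rw [if_pos hil, if_pos hil.symm, mul_one]
          congr 2
          refine Finset.prod_bij' (fun m _ => i + (m : ZMod p) * k) (fun r _ => ((r - i) * k⁻¹).val) ?_ ?_ ?_ ?_ ?_
          · simp
          · intro r _; exact Finset.mem_range.mpr (ZMod.val_lt _)
          · intro m hm
            rw [add_sub_cancel_left, mul_inv_cancel_right₀ hk, ZMod.val_cast_of_lt (Finset.mem_range.mp hm)]
          · intro r _
            rw [ZMod.natCast_zmod_val, inv_mul_cancel_right₀ hk, add_sub_cancel]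
          · intros; rfl
        · rw [if_neg hil, if_neg (Ne.symm hil), mul_zero]
      apply hb
      have h5 := hpowv p
      rw [hd', Matrix.smul_mulVec, Matrix.one_mulVec] at h5
      rw [hd', smul_left_injective F hv0 h5]
    let g : GL (ZMod p) F := Matrix.GeneralLinearGroup.mkOfDetNeZero g0 hdet
    have hgval : (g : Mat) = g0 := rfl
    have hgc : g * x = x * g := by
      apply Units.ext
      rw [Units.val_mul, Units.val_mul, hgval]
      exact ((Commute.one_left _).add_left ((Commute.refl (x : Mat)).smul_left a)).eq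
    refine two_sylow_of_smul S hxS hgc fun hn => ?_
    set e : ZMod p → rootsOfUnity p F := Pi.mulSingle 0 w with he
    have hmem : g * monU e 0 * g⁻¹ ∈ monGroup F p := by
      rw [← hS]
      exact (mem_normalizer_iff.mp hn _).mp (hS ▸ monU_mem e 0)
    obtain ⟨f, j, hf⟩ := hmem
    have hm : (g : Mat) * mon e 0 = mon f j * (g : Mat) := by
      rw [← hf, ← Units.val_mul, ← show ((g * monU e 0 : GL (ZMod p) F) : Mat) = (g : Mat) * mon e 0 from rfl]
      congr 1; group
    rw [hgval, hg0, add_mul, mul_add, one_mul, mul_one, smul_mul_assoc, mul_smul_comm, hx, mon_mul, mon_mul, add_zero] at hm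
    have ha0 : a ≠ 0 := neg_ne_zero.mpr (inv_ne_zero hb0)
    have hE : ∀ r c, (if c = r then ((e r : Fˣ) : F) else 0) + a * (if c = r + k then (((d r * e (r + k) : rootsOfUnity p F) : Fˣ) : F) else 0)
        = (if c = r + j then ((f r : Fˣ) : F) else 0) + a * (if c = r + (j + k) then (((f r * d (r + j) : rootsOfUnity p F) : Fˣ) : F) else 0) := by
      intro r c
      have := congrFun (congrFun hm r) c
      simpa [mon_apply] using this
    have hj : j = 0 := by
      by_contra hj0
      have e1 := hE 0 j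
      have e2 := hE 0 (j + k)
      simp only [zero_add] at e1 e2
      simp [hj0, hk] at e1
      by_cases hjk : j = k
      · subst hjk
        have : j + j ≠ 0 := by rw [← two_mul]; exact mul_ne_zero htwo hk
        simp [this, hk, ha0] at e2
      · rw [if_neg hjk] at e1
        exact (Units.ne_zero _) e1.symm
    subst hj
    have e1 := hE 0 0
    have e2 := hE 0 k
    simp [hk, Ne.symm hk] at e1
    simp [hk, Ne.symm hk, ha0] at e2
    rw [show f 0 = e 0 from Subtype.ext (Units.ext e1.symm)] at e2
    have h6 : ((e k : Fˣ) : F) = ((e 0 : Fˣ) : F) :=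
      mul_left_cancel₀ (Units.ne_zero (d 0 : Fˣ)) (e2.trans (mul_comm _ _))
    rw [he, Pi.mulSingle_eq_same, Pi.mulSingle_eq_of_ne hk] at h6
    exact hw1 (Subtype.ext (Units.ext h6.symm))

theorem two_sylows [Fintype F] (hp : p ≠ 2) (h1 : p ∣ Fintype.card F - 1) (h2 : ¬ p ^ 2 ∣ Fintype.card F - 1)
    (x : GL (ZMod p) F) (hx : IsPGroup p (zpowers x)) :
    ∃ P Q : Sylow p (GL (ZMod p) F), P ≠ Q ∧ x ∈ P ∧ x ∈ Q := by
  classical
  obtain ⟨S, hS⟩ := exists_sylow (F := F) hp h1 h2
  obtain ⟨R, hR⟩ := hx.exists_le_sylow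
  obtain ⟨h, rfl⟩ := MulAction.exists_smul_eq (GL (ZMod p) F) S R
  have hy : h⁻¹ * x * h ∈ (S : Subgroup _) := by
    have := hR (mem_zpowers x)
    rw [Sylow.coe_subgroup_smul, Subgroup.mem_pointwise_smul_iff_inv_smul_mem] at this
    simpa [MulAut.smul_def, mul_assoc] using this
  suffices H : ∀ y ∈ (S : Subgroup _), ∃ P Q : Sylow p (GL (ZMod p) F), P ≠ Q ∧ y ∈ P ∧ y ∈ Q by
    have := two_sylow_conj (h := h) (H _ hy)
    simpa [mul_assoc] using this
  intro y hy
  obtain ⟨d, k, hd⟩ : y ∈ monGroup F p := hS ▸ hy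
  by_cases hk : k = 0
  swap
  · exact shift_case hp h1 S hS hk hd
  subst hk
  obtain ⟨w, hw⟩ := exists_root h1
  have hw1 : w ≠ 1 := fun h => (Fact.out : p.Prime).ne_one (by rw [← hw, h, orderOf_one])
  by_cases hinj : Function.Injective d
  · -- distinct eigenvalues: conjugate to the shift
    let v : ZMod p → F := fun i => (((d i)⁻¹ : rootsOfUnity p F) : Fˣ)
    let H : Mat := Matrix.of fun i l => v i ^ l.val
    let e : Fin p ≃ ZMod p :=
      { toFun := fun n => (n : ℕ)
        invFun := fun z => ⟨z.val, ZMod.val_lt z⟩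
        left_inv := fun n => Fin.ext (ZMod.val_cast_of_lt n.2)
        right_inv := fun z => ZMod.natCast_zmod_val z }
    have hH : H.det ≠ 0 := by
      rw [← Matrix.det_submatrix_equiv_self e H,
        show H.submatrix e e = Matrix.vandermonde (v ∘ e) by
          ext i l; simp [H, Matrix.vandermonde, e, ZMod.val_cast_of_lt l.2]]
      exact Matrix.det_vandermonde_ne_zero_iff.mpr (fun a b hab => e.injective (hinj (inv_injective (Subtype.ext (Units.ext hab)))))
    let g : GL (ZMod p) F := Matrix.GeneralLinearGroup.mkOfDetNeZero H hH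
    set s : GL (ZMod p) F := monU (fun _ => 1) 1
    have hcomm : y * g = g * s := by
      apply Units.ext
      show (y : Mat) * H = H * mon (fun _ => 1) 1
      rw [hd]
      ext i l
      rw [Matrix.mul_apply, Matrix.mul_apply, Finset.sum_eq_single i (fun b _ hb => by simp [mon_apply, hb]) (by simp),
        Finset.sum_eq_single (l - 1) (fun b _ hb => by
          rw [mon_apply, if_neg (fun h => hb (by rw [h]; ring)), mul_zero]) (by simp)]
      simp only [mon_apply, add_zero, if_pos, sub_add_cancel, H, Matrix.of_apply, v]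
      simp only [OneMemClass.coe_one, Units.val_one, mul_one]
      have hvp : ∀ n m : ℕ, (n : ZMod p) = m → ((d i)⁻¹) ^ n = ((d i)⁻¹) ^ m := by
        intro n m hnm
        have hone : ((d i)⁻¹) ^ p = 1 := by
          apply Subtype.ext
          exact (mem_rootsOfUnity p _).mp ((d i)⁻¹).2
        exact pow_eq_pow_of_modEq ((ZMod.natCast_eq_natCast_iff _ _ _).mp hnm) hone
      have h3 := hvp ((l - 1).val + 1) l.val (by push_cast; rw [ZMod.natCast_zmod_val, ZMod.natCast_zmod_val]; ring)
      rw [pow_succ] at h3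
      have h4 : ((d i)⁻¹) ^ (l - 1).val = d i * ((d i)⁻¹) ^ l.val := by
        rw [← h3, mul_comm ((d i)⁻¹ ^ (l - 1).val), mul_inv_cancel_left]
      have h5 := congrArg (fun z : rootsOfUnity p F => ((z : Fˣ) : F)) h4
      simpa using h5.symm
    have := two_sylow_conj (h := g) (shift_case hp h1 S hS one_ne_zero (x := s) (d := fun _ => 1) (k := 1) rfl)
    rwa [← hcomm, mul_inv_cancel_right] at this
  · -- a repeated eigenvalue: a transvection centralises
    simp only [Function.Injective, not_forall] at hinj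
    obtain ⟨i, j, hij, hne⟩ := hinj
    let t : GL (ZMod p) F := Matrix.GeneralLinearGroup.mkOfDetNeZero (Matrix.transvection i j (1 : F))
      (by rw [Matrix.det_transvection_of_ne i j hne]; exact one_ne_zero)
    have htval : (t : Mat) = 1 + Matrix.single i j (1 : F) := rfl
    have hsingle : ∀ (f : ZMod p → rootsOfUnity p F) (l r c : ZMod p),
        (mon f l * Matrix.single i j (1 : F)) r c = if r + l = i ∧ c = j then ((f r : Fˣ) : F) else 0 := by
      intro f l r c
      rw [Matrix.mul_apply, Finset.sum_eq_single (r + l) (fun b _ hb => by simp [mon_apply, hb]) (by simp)]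
      simp [mon_apply, Matrix.single_apply, eq_comm]
    have hsingle' : ∀ (f : ZMod p → rootsOfUnity p F) (r c : ZMod p),
        (Matrix.single i j (1 : F) * mon f 0) r c = if r = i ∧ c = j then ((f j : Fˣ) : F) else 0 := by
      intro f r c
      rw [Matrix.mul_apply, Finset.sum_eq_single j (fun b _ hb => by simp [Matrix.single_apply, Ne.symm hb]) (by simp)]
      by_cases hr : r = i <;> by_cases hc : c = j <;> simp [mon_apply, Matrix.single_apply, hr, hc, eq_comm, Ne.symm]
    refine two_sylow_of_smul S hy (g := t) ?_ fun hn => ?_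
    · apply Units.ext
      rw [Units.val_mul, Units.val_mul, htval, hd, add_mul, mul_add, one_mul, mul_one]
      congr 1
      ext r c
      rw [hsingle, hsingle', add_zero]
      by_cases h : r = i ∧ c = j
      · rw [if_pos h, if_pos h, h.1, hij]
      · rw [if_neg h, if_neg h]
    set e : ZMod p → rootsOfUnity p F := Pi.mulSingle i w with he
    have hmem : t * monU e 0 * t⁻¹ ∈ monGroup F p := by
      rw [← hS]
      exact (mem_normalizer_iff.mp hn _).mp (hS ▸ monU_mem e 0)
    obtain ⟨f, l, hf⟩ := hmem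
    have hm : (t : Mat) * mon e 0 = mon f l * (t : Mat) := by
      rw [← hf, ← Units.val_mul, ← show ((t * monU e 0 : GL (ZMod p) F) : Mat) = (t : Mat) * mon e 0 from rfl]
      congr 1; group
    rw [htval, add_mul, mul_add, one_mul, mul_one] at hm
    have hE : ∀ r c, (if c = r then ((e r : Fˣ) : F) else 0) + (if r = i ∧ c = j then ((e j : Fˣ) : F) else 0)
        = (if c = r + l then ((f r : Fˣ) : F) else 0) + (if r + l = i ∧ c = j then ((f r : Fˣ) : F) else 0) := by
      intro r c
      have := congrFun (congrFun hm r) c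
      simpa [mon_apply, hsingle, hsingle'] using this
    obtain ⟨r, hr⟩ : ∃ r, r ∉ ({i, i - l} : Finset (ZMod p)) := by
      by_contra hall
      push Not at hall
      have h3 : Fintype.card (ZMod p) ≤ ({i, i - l} : Finset (ZMod p)).card := Finset.card_le_card fun r _ => hall r
      rw [ZMod.card] at h3
      have := h3.trans Finset.card_le_two
      have := (Fact.out : p.Prime).two_le
      omega
    simp only [Finset.mem_insert, Finset.mem_singleton, not_or] at hr
    have hl : l = 0 := by
      have h3 := hE r r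
      have hrl : r + l ≠ i := fun h => hr.2 (by rw [← h, add_sub_cancel_right])
      by_contra hl0
      simp [hr.1, hrl, hl0] at h3
    subst hl
    have e1 := hE i i
    have e2 := hE i j
    simp [hne] at e1
    simp [Ne.symm hne, ← e1, he, Pi.mulSingle_eq_of_ne (Ne.symm hne), Pi.mulSingle_eq_same] at e2
    exact hw1 (Subtype.ext (Units.ext e2.symm))

theorem exists_redundant [Fintype F] (hp : p ≠ 2) (h1 : p ∣ Fintype.card F - 1)
    (h2 : ¬ p ^ 2 ∣ Fintype.card F - 1) (x : GL (Fin p) F) (hx : ∃ k : ℕ, orderOf x = p ^ k) :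
    ∃ P Q : Sylow p (GL (Fin p) F), P ≠ Q ∧ x ∈ P ∧ x ∈ Q := by
  classical
  let e : GL (ZMod p) F ≃* GL (Fin p) F :=
    Units.mapEquiv (Matrix.reindexAlgEquiv F F (Fintype.equivFinOfCardEq (ZMod.card p))).toMulEquiv
  obtain ⟨k, hk⟩ := hx
  obtain ⟨P, Q, hne, hP, hQ⟩ := two_sylows hp h1 h2 (e.symm x) (IsPGroup.of_card (n := k) (by
    rw [Nat.card_zpowers, MulEquiv.orderOf_eq, hk]))
  have hs : Function.Surjective (e : GL (ZMod p) F →* GL (Fin p) F) := e.surjective
  refine ⟨P.mapSurjective hs, Q.mapSurjective hs, fun h => hne (Sylow.ext ?_), ?_, ?_⟩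
  · exact Subgroup.map_injective e.injective (Sylow.ext_iff.mp h)
  · exact ⟨e.symm x, hP, e.apply_symm_apply x⟩
  · exact ⟨e.symm x, hQ, e.apply_symm_apply x⟩

end CfsgLib.Monomial
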